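import Groth.Agent.ConsPropLib.Noetherian
import Groth.Agent.NormFieldX.Props
import Groth.Agent.S0089
import Groth.Agent.SpecLib.Basic
import Mathlib.AlgebraicGeometry.Morphisms.Flat
import Mathlib.AlgebraicGeometry.Morphisms.Integral
import Mathlib.FieldTheory.IsAlgClosed.AlgebraicClosure

/-!
# Gabber's criterion: the scheme theoretic part

For an étale cover with a closed "disagreement locus" on the double product missing the part over a closed
subset `Z`, the disagreement locus misses the generalisations of that part, provided the preimage of `Z` in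
every integral scheme integral over the base is connected.
-/

universe u

open CategoryTheory CategoryTheory.Limits AlgebraicGeometry Topology

namespace Groth.Agent.EtPBC63.Gabber

variable {X U : Scheme.{u}} (h : U ⟶ X)

/-- The diagonal. -/
noncomputable abbrev diag : U ⟶ pullback h h := pullback.lift (𝟙 U) (𝟙 U) rfl

/-- The flip. -/
noncomputable abbrev flip : pullback h h ⟶ pullback h h :=
  pullback.lift (pullback.snd h h) (pullback.fst h h) pullback.condition.symm

/-- The triple product. -/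
noncomputable abbrev triple : Scheme.{u} := pullback (pullback.snd h h) (pullback.fst h h)

/-- The projection forgetting the middle factor. -/
noncomputable abbrev outer : triple h ⟶ pullback h h :=
  pullback.lift (pullback.fst _ _ ≫ pullback.fst h h) (pullback.snd _ _ ≫ pullback.snd h h) (by
    rw [Category.assoc, Category.assoc, pullback.condition (f := h) (g := h),
      pullback.condition_assoc, pullback.condition (f := h) (g := h)])

/-- The conditions on a disagreement locus. -/
structure IsDisagreement (D : Set ↥(pullback h h)) : Prop where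
  isClosed : IsClosed D
  refl : ∀ u : U, diag h u ∉ D
  symm : ∀ w, w ∉ D → flip h w ∉ D
  trans : ∀ t : triple h, pullback.fst (pullback.snd h h) (pullback.fst h h) t ∉ D →
    pullback.snd (pullback.snd h h) (pullback.fst h h) t ∉ D → outer h t ∉ D

variable {h}

section chain

variable {W Y : Scheme.{u}} (q : W ⟶ Y) {D : Set ↥(pullback h h)} (Φ : pullback q q ⟶ pullback h h)
  (ρ : W ⟶ U) (hΦ₁ : Φ ≫ pullback.fst h h = pullback.fst q q ≫ ρ)
  (hΦ₂ : Φ ≫ pullback.snd h h = pullback.snd q q ≫ ρ)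

include hΦ₁ hΦ₂

theorem diag_comp (hD : IsDisagreement h D) {T : Scheme.{u}} (a : T ⟶ W) (t : T) :
    Φ ((pullback.lift a a rfl : T ⟶ pullback q q) t) ∉ D := by
  have he : pullback.lift a a rfl ≫ Φ = (a ≫ ρ) ≫ diag h := by
    apply pullback.hom_ext <;> simp only [diag, flip, outer, Category.assoc, Category.id_comp, Category.comp_id, hΦ₁, hΦ₂, reassoc_of% hΦ₁, reassoc_of% hΦ₂, pullback.lift_fst, pullback.lift_snd, pullback.lift_fst_assoc, pullback.lift_snd_assoc]
  rw [← Scheme.Hom.comp_apply, he, Scheme.Hom.comp_apply]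
  exact hD.refl _

theorem flip_comp (hD : IsDisagreement h D) {T : Scheme.{u}} (a b : T ⟶ W) (e : a ≫ q = b ≫ q) (t : T)
    (ht : Φ ((pullback.lift a b e : T ⟶ pullback q q) t) ∉ D) :
    Φ ((pullback.lift b a e.symm : T ⟶ pullback q q) t) ∉ D := by
  have he : pullback.lift b a e.symm ≫ Φ = (pullback.lift a b e ≫ Φ) ≫ flip h := by
    apply pullback.hom_ext <;> simp only [diag, flip, outer, Category.assoc, Category.id_comp, Category.comp_id, hΦ₁, hΦ₂, reassoc_of% hΦ₁, reassoc_of% hΦ₂, pullback.lift_fst, pullback.lift_snd, pullback.lift_fst_assoc, pullback.lift_snd_assoc]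
  rw [← Scheme.Hom.comp_apply, he, Scheme.Hom.comp_apply]
  exact hD.symm _ ht

theorem trans_comp (hD : IsDisagreement h D) {T : Scheme.{u}} (a b c : T ⟶ W) (e : a ≫ q = b ≫ q)
    (e' : b ≫ q = c ≫ q) (t : T) (ht : Φ ((pullback.lift a b e : T ⟶ pullback q q) t) ∉ D)
    (ht' : Φ ((pullback.lift b c e' : T ⟶ pullback q q) t) ∉ D) :
    Φ ((pullback.lift a c (e.trans e') : T ⟶ pullback q q) t) ∉ D := by
  let l : T ⟶ triple h := pullback.lift (pullback.lift a b e ≫ Φ) (pullback.lift b c e' ≫ Φ)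
    (by simp only [diag, flip, outer, Category.assoc, Category.id_comp, Category.comp_id, hΦ₁, hΦ₂, reassoc_of% hΦ₁, reassoc_of% hΦ₂, pullback.lift_fst, pullback.lift_snd, pullback.lift_fst_assoc, pullback.lift_snd_assoc])
  have he : pullback.lift a c (e.trans e') ≫ Φ = l ≫ outer h := by
    apply pullback.hom_ext <;> simp only [diag, flip, outer, Category.assoc, Category.id_comp, Category.comp_id, hΦ₁, hΦ₂, reassoc_of% hΦ₁, reassoc_of% hΦ₂, pullback.lift_fst, pullback.lift_snd, pullback.lift_fst_assoc, pullback.lift_snd_assoc, l]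
  rw [← Scheme.Hom.comp_apply, he, Scheme.Hom.comp_apply]
  refine hD.trans _ ?_ ?_
  · rwa [← Scheme.Hom.comp_apply, pullback.lift_fst]
  · rwa [← Scheme.Hom.comp_apply, pullback.lift_snd]

end chain

variable [Etale h] [IsSeparated h] {Z : Set X} {D : Set ↥(pullback h h)}

/-- Over a normal integral scheme with algebraically closed function field the disagreement locus misses
the generic point. -/
theorem notMem_of_normal (hD : IsDisagreement h D)
    (hDZ : ∀ w, (pullback.fst h h ≫ h) w ∈ Z → w ∉ D) (hcovZ : Z ⊆ Set.range h) {V : Scheme.{u}} [IsIntegral V]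
    (hN : ∀ v : V, IsIntegrallyClosed (V.presheaf.stalk v)) [IsSepClosed V.functionField] (π : V ⟶ X)
    [IsIntegralHom π] (hconn : _root_.IsPreconnected (π ⁻¹' Z)) (p : ↥(pullback (pullback.snd h π) (pullback.snd h π)))
    (hp : (pullback.fst _ _ ≫ pullback.snd h π) p = genericPoint V)
    {z z' : U} (hz : h z ∈ Z) (hz' : h z' ∈ Z)
    (h₁ : (pullback.fst _ _ ≫ pullback.fst h π) p ⤳ z) (h₂ : (pullback.snd _ _ ≫ pullback.fst h π) p ⤳ z') :
    pullback.map (pullback.snd h π) (pullback.snd h π) h h (pullback.fst h π) (pullback.fst h π) π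
      pullback.condition.symm pullback.condition.symm p ∉ D := by
  classical
  let q := pullback.snd h π
  let ρ := pullback.fst h π
  let Φ := pullback.map q q h h ρ ρ π pullback.condition.symm pullback.condition.symm
  have hΦ₁ : Φ ≫ pullback.fst h h = pullback.fst q q ≫ ρ := pullback.lift_fst _ _ _
  have hΦ₂ : Φ ≫ pullback.snd h h = pullback.snd q q ≫ ρ := pullback.lift_snd _ _ _
  obtain ⟨ι, O, e, he⟩ := S0089.result (X := V) hN q
  let σ : ∀ i, (O i : Scheme.{u}) ⟶ pullback h π := fun i => Sigma.ι (fun i => (O i : Scheme.{u})) i ≫ e.hom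
  have hσ : ∀ i, σ i ≫ q = (O i).ι := fun i => by rw [Category.assoc]; exact he i
  have hσopen : ∀ i, IsOpenImmersion (σ i) := fun i => inferInstance
  have hcov : ∀ y : ↥(pullback h π), ∃ i, y ∈ Set.range (σ i) := by
    intro y
    obtain ⟨i, t, ht⟩ := (sigmaOpenCover (fun i => (O i : Scheme.{u}))).exists_eq (e.inv y)
    refine ⟨i, t, ?_⟩
    rw [Scheme.Hom.comp_apply]
    refine (congrArg e.hom ht).trans ?_
    rw [← Scheme.Hom.comp_apply, Iso.inv_hom_id]
    rfl
  -- the lifts over a point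
  let Q : ι → ι → Scheme.{u} := fun i k => pullback (O i).ι (O k).ι
  let P : ∀ i k, Q i k ⟶ pullback q q := fun i k =>
    pullback.lift (pullback.fst _ _ ≫ σ i) (pullback.snd _ _ ≫ σ k) (by
      simp only [Category.assoc]; rw [hσ, hσ, pullback.condition])
  let toV : ∀ i k, Q i k ⟶ V := fun i k => pullback.fst _ _ ≫ (O i).ι
  have htoV : ∀ i k, ∀ t, toV i k t ∈ O i ∧ toV i k t ∈ O k := fun i k t => by
    refine ⟨((pullback.fst (O i).ι (O k).ι) t).2, ?_⟩
    show ((pullback.fst _ _ ≫ (O i).ι) t : V) ∈ O k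
    rw [pullback.condition]
    exact ((pullback.snd (O i).ι (O k).ι) t).2
  have hQ : ∀ i k (v : V), v ∈ O i → v ∈ O k → ∃ t, toV i k t = v := fun i k v hi hk => by
    obtain ⟨t, ht, -⟩ := Scheme.Pullback.exists_preimage_pullback (f := (O i).ι) (g := (O k).ι) ⟨v, hi⟩ ⟨v, hk⟩ rfl
    exact ⟨t, congrArg (O i).ι ht⟩
  -- agreement of two sections at the generic point
  let η := genericPoint V
  let R : ι → ι → Prop := fun i k => ∃ t : Q i k, toV i k t = η ∧ Φ (P i k t) ∉ D
  have hRall : ∀ i k t, toV i k t = η → (R i k ↔ Φ (P i k t) ∉ D) := by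
    intro i k t ht
    refine ⟨fun ⟨t', ht', h'⟩ => ?_, fun h' => ⟨t, ht, h'⟩⟩
    obtain rfl : t' = t := (toV i k).isOpenEmbedding.injective (ht'.trans ht.symm)
    exact h'
  have hrefl : ∀ i t, toV i i t = η → R i i := by
    intro i t ht
    refine (hRall i i t ht).mpr ?_
    have : pullback.fst (O i).ι (O i).ι = pullback.snd (O i).ι (O i).ι :=
      (cancel_mono (O i).ι).mp pullback.condition
    have heq : P i i = pullback.lift (pullback.fst _ _ ≫ σ i) (pullback.fst _ _ ≫ σ i) rfl := by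
      apply pullback.hom_ext <;> simp [P, this]
    rw [heq]
    exact diag_comp q Φ ρ hΦ₁ hΦ₂ hD _ t
  have hsymm : ∀ i k, R i k → R k i := by
    rintro i k ⟨t, ht, h'⟩
    let s : Q i k ⟶ Q k i := (pullbackSymmetry _ _).hom
    have hs : s ≫ toV k i = toV i k := by simp [s, toV, pullback.condition]
    refine ⟨s t, by rw [← Scheme.Hom.comp_apply, hs, ht], ?_⟩
    have heq : s ≫ P k i = pullback.lift (pullback.snd _ _ ≫ σ k) (pullback.fst _ _ ≫ σ i)
        (by simp only [Category.assoc]; rw [hσ, hσ, pullback.condition]) := by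
      apply pullback.hom_ext <;> simp only [Category.assoc, Category.id_comp, Category.comp_id, hσ, pullback.lift_fst, pullback.lift_snd, pullback.lift_fst_assoc, pullback.lift_snd_assoc, pullbackSymmetry_hom_comp_fst_assoc, pullbackSymmetry_hom_comp_snd_assoc, s, P]
    rw [← Scheme.Hom.comp_apply (f := s), heq]
    exact flip_comp q Φ ρ hΦ₁ hΦ₂ hD _ _ _ t h'
  have htrans : ∀ i j k, R i j → R j k → R i k := by
    rintro i j k ⟨t, ht, h'⟩ ⟨t', ht', h''⟩
    obtain ⟨s, hs, hs'⟩ := Scheme.Pullback.exists_preimage_pullback (f := toV i j) (g := toV j k) t t'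
      (ht.trans ht'.symm)
    let T := pullback (toV i j) (toV j k)
    have hj : pullback.fst (toV i j) (toV j k) ≫ pullback.snd (O i).ι (O j).ι =
        pullback.snd (toV i j) (toV j k) ≫ pullback.fst (O j).ι (O k).ι := by
      rw [← cancel_mono (O j).ι, Category.assoc, Category.assoc, ← pullback.condition]
      exact pullback.condition
    let l : T ⟶ Q i k := pullback.lift (pullback.fst _ _ ≫ pullback.fst (O i).ι (O j).ι)
      (pullback.snd _ _ ≫ pullback.snd (O j).ι (O k).ι) (by
        rw [Category.assoc, Category.assoc, ← pullback.condition (f := (O j).ι) (g := (O k).ι)]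
        exact pullback.condition)
    let a : T ⟶ pullback h π := pullback.fst (toV i j) (toV j k) ≫ pullback.fst _ _ ≫ σ i
    let b : T ⟶ pullback h π := pullback.fst (toV i j) (toV j k) ≫ pullback.snd _ _ ≫ σ j
    let c : T ⟶ pullback h π := pullback.snd (toV i j) (toV j k) ≫ pullback.snd _ _ ≫ σ k
    have eab : a ≫ q = b ≫ q := by simp [a, b, hσ, pullback.condition]
    have ebc : b ≫ q = c ≫ q := by
      simp only [b, c, Category.assoc, hσ, ← pullback.condition (f := (O j).ι) (g := (O k).ι)]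
      rw [reassoc_of% hj]
    have hl : l ≫ P i k = pullback.lift a c (eab.trans ebc) := by
      apply pullback.hom_ext <;> simp only [Category.assoc, Category.id_comp, Category.comp_id, hσ, pullback.lift_fst, pullback.lift_snd, pullback.lift_fst_assoc, pullback.lift_snd_assoc, l, P, a, c]
    have h12 : pullback.fst (toV i j) (toV j k) ≫ P i j = pullback.lift a b eab := by
      apply pullback.hom_ext <;> simp only [Category.assoc, Category.id_comp, Category.comp_id, hσ, pullback.lift_fst, pullback.lift_snd, pullback.lift_fst_assoc, pullback.lift_snd_assoc, P, a, b]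
    have h23 : pullback.snd (toV i j) (toV j k) ≫ P j k = pullback.lift b c ebc := by
      apply pullback.hom_ext <;> simp only [Category.assoc, Category.id_comp, Category.comp_id, hσ, pullback.lift_fst, pullback.lift_snd, pullback.lift_fst_assoc, pullback.lift_snd_assoc, P, b, c, reassoc_of% hj]
    refine ⟨l s, ?_, ?_⟩
    · have : l ≫ toV i k = pullback.fst _ _ ≫ toV i j := by simp only [Category.assoc, Category.id_comp, Category.comp_id, hσ, pullback.lift_fst, pullback.lift_snd, pullback.lift_fst_assoc, pullback.lift_snd_assoc, l, toV]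
      rw [← Scheme.Hom.comp_apply, this, Scheme.Hom.comp_apply, hs, ht]
    · rw [← Scheme.Hom.comp_apply (f := l), hl]
      refine trans_comp q Φ ρ hΦ₁ hΦ₂ hD a b c eab ebc s ?_ ?_
      · rwa [← h12, Scheme.Hom.comp_apply, hs]
      · rwa [← h23, Scheme.Hom.comp_apply, hs']
  -- sections through a common point of the part over `Z` agree
  have hlocal : ∀ i k (v : V), π v ∈ Z → v ∈ O i → v ∈ O k → R i k := by
    intro i k v hv hi hk
    obtain ⟨t, ht⟩ := hQ i k v hi hk
    have hΦπ : Φ ≫ pullback.fst h h ≫ h = (pullback.fst q q ≫ q) ≫ π := by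
      rw [reassoc_of% hΦ₁, Category.assoc]
      exact congrArg (pullback.fst q q ≫ ·) pullback.condition
    have hPV : P i k ≫ pullback.fst q q ≫ q = toV i k := by
      simp only [Category.assoc, Category.id_comp, Category.comp_id, hσ, pullback.lift_fst, pullback.lift_snd, pullback.lift_fst_assoc, pullback.lift_snd_assoc, P, toV]
    have hnot : Φ (P i k t) ∉ D := by
      refine hDZ _ ?_
      rw [← Scheme.Hom.comp_apply, hΦπ, Scheme.Hom.comp_apply, ← Scheme.Hom.comp_apply (f := P i k), hPV, ht]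
      exact hv
    have hopen : IsOpen ((Φ ∘ P i k) ⁻¹' Dᶜ) :=
      hD.isClosed.isOpen_compl.preimage (Φ.continuous.comp (P i k).continuous)
    obtain ⟨t₀, ht₀, ht₀'⟩ := ((genericPoint_spec V).mem_open_set_iff
      ((toV i k).isOpenEmbedding.isOpenMap _ hopen)).mpr ⟨v, Set.mem_univ v, t, hnot, ht⟩
    exact ⟨t₀, ht₀', ht₀⟩
  -- the point
  obtain ⟨i₁, t₁, ht₁⟩ := hcov ((pullback.fst q q) p)
  obtain ⟨i₂, t₂, ht₂⟩ := hcov ((pullback.snd q q) p)
  have hp₂ : (pullback.snd q q ≫ q) p = η := by rw [← pullback.condition]; exact hp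
  have hη₁ : (O i₁).ι t₁ = η := by
    rw [← hσ i₁, Scheme.Hom.comp_apply, ht₁, ← Scheme.Hom.comp_apply]
    exact hp
  have hη₂ : (O i₂).ι t₂ = η := by
    rw [← hσ i₂, Scheme.Hom.comp_apply, ht₂, ← Scheme.Hom.comp_apply]
    exact hp₂
  have hlift : ∀ (i : ι) (t : (O i : Scheme.{u})) (z : U), (O i).ι t = η → h z ∈ Z → ρ (σ i t) ⤳ z →
      ∃ v ∈ O i, π v ∈ Z := by
    intro i t z ht hz hsp
    have hρ : IsClosedMap ρ := ρ.isClosedMap
    obtain ⟨y, hy, hyz⟩ : z ∈ ρ '' closure {σ i t} :=
      hsp.mem_closed (hρ _ isClosed_closure) ⟨_, subset_closure rfl, rfl⟩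
    obtain ⟨k, t', rfl⟩ := hcov y
    obtain ⟨t'', ht''⟩ : σ i t ∈ Set.range (σ k) :=
      (specializes_iff_mem_closure.mpr hy).mem_open (σ k).isOpenEmbedding.isOpen_range ⟨t', rfl⟩
    obtain rfl : k = i := by
      exact congrArg Sigma.fst ((sigmaι_eq_iff _ k i t'' t).mp (e.hom.isOpenEmbedding.injective
        ((Scheme.Hom.comp_apply _ _ t'').symm.trans (ht''.trans (Scheme.Hom.comp_apply _ _ t)))))
    refine ⟨(O k).ι t', t'.2, ?_⟩
    rw [← hσ k, Scheme.Hom.comp_apply, ← Scheme.Hom.comp_apply, ← pullback.condition, Scheme.Hom.comp_apply, hyz]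
    exact hz
  obtain ⟨v₁, hv₁, hv₁Z⟩ := hlift i₁ t₁ z hη₁ hz (by rw [ht₁, ← Scheme.Hom.comp_apply]; exact h₁)
  obtain ⟨v₂, hv₂, hv₂Z⟩ := hlift i₂ t₂ z' hη₂ hz' (by rw [ht₂, ← Scheme.Hom.comp_apply]; exact h₂)
  -- the class is constant on the part over `Z`
  let S : Set V := ⋃ (i) (_ : R i i₁), (O i : Set V)
  let S' : Set V := ⋃ (i) (_ : ¬ R i i₁), (O i : Set V)
  have hS : IsOpen S := isOpen_iUnion fun i => isOpen_iUnion fun _ => (O i).isOpen
  have hS' : IsOpen S' := isOpen_iUnion fun i => isOpen_iUnion fun _ => (O i).isOpen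
  have hR₁ : R i₁ i₁ := hlocal i₁ i₁ v₁ hv₁Z hv₁ hv₁
  have hsub : π ⁻¹' Z ⊆ S ∪ S' := by
    intro v hv
    obtain ⟨u, hu⟩ := hcovZ hv
    obtain ⟨y, -, hy⟩ := Scheme.Pullback.exists_preimage_pullback (f := h) (g := π) u v hu
    obtain ⟨i, t, rfl⟩ := hcov y
    have hvi : v ∈ O i := by
      rw [← hy, ← Scheme.Hom.comp_apply (f := σ i), hσ]
      exact t.2
    by_cases hR : R i i₁
    · exact Or.inl (Set.mem_iUnion₂.mpr ⟨i, hR, hvi⟩)
    · exact Or.inr (Set.mem_iUnion₂.mpr ⟨i, hR, hvi⟩)
  have hR₂ : R i₂ i₁ := by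
    by_contra hne
    obtain ⟨v, hv, hvS, hvS'⟩ := hconn S S' hS hS' hsub
      ⟨v₁, hv₁Z, Set.mem_iUnion₂.mpr ⟨i₁, hR₁, hv₁⟩⟩ ⟨v₂, hv₂Z, Set.mem_iUnion₂.mpr ⟨i₂, hne, hv₂⟩⟩
    obtain ⟨i, hi, hvi⟩ := Set.mem_iUnion₂.mp hvS
    obtain ⟨k, hk, hvk⟩ := Set.mem_iUnion₂.mp hvS'
    exact hk (htrans k i i₁ (hlocal k i v hv hvk hvi) hi)
  -- the point is the one of the two sections
  obtain ⟨t, ht, hDt⟩ := hsymm i₂ i₁ hR₂
  have hpR : p ∈ Set.range (P i₁ i₂) := by
    have hP : P i₁ i₂ = pullback.map (O i₁).ι (O i₂).ι q q (σ i₁) (σ i₂) (𝟙 V)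
        (by rw [hσ, Category.comp_id]) (by rw [hσ, Category.comp_id]) := rfl
    rw [hP, Scheme.Pullback.range_map]
    exact ⟨⟨t₁, ht₁⟩, ⟨t₂, ht₂⟩⟩
  obtain ⟨t', rfl⟩ := hpR
  have ht' : toV i₁ i₂ t' = η := by
    refine Eq.trans ?_ hp
    rw [← Scheme.Hom.comp_apply]
    refine congrArg (fun φ : Q i₁ i₂ ⟶ V => φ t') ?_
    show toV i₁ i₂ = P i₁ i₂ ≫ pullback.fst q q ≫ q
    simp only [Category.assoc, hσ, pullback.lift_fst_assoc, P, toV]
  exact (hRall i₁ i₂ t' ht').mp ⟨t, ht, hDt⟩

end Groth.Agent.EtPBC63.Gabber
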