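import Groth.Agent.EtPBC63.Gabber.Sheaf
import Groth.Agent.EtPBC63.Conn.Main

/-!
# Sections of étale sheaves on schemes proper over henselian pairs
-/

universe u

open CategoryTheory CategoryTheory.Limits AlgebraicGeometry Opposite

namespace Groth.Agent.EtPBC63.Gabber

variable {A : Type u} [CommRing A] (I : Ideal A) [HenselianRing A I] {X Z : Scheme.{u}}
  (f : X ⟶ Spec (CommRingCat.of A)) [IsProper f] (i : Z ⟶ X) [IsClosedImmersion i] [EtCoh.BCCont i]

theorem bijective_unit_of_proper (hi : Set.range i.base = f ⁻¹' PrimeSpectrum.zeroLocus (I : Set A))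
    (F : EtCoh.Ab X) :
    Function.Bijective (((EtCoh.pullPushAdj i).unit.app F).hom.app (op (EtCoh.top X))) := by
  haveI := Conn.spectralSpace I f
  haveI : CompactSpace X := QuasiCompact.compactSpace_of_compactSpace f
  haveI : QuasiSeparatedSpace X := quasiSeparatedSpace_of_quasiSeparated f
  refine bijective_unit i F (fun V _ π _ => ?_) fun x => ?_
  · rw [hi]
    exact Conn.isPreconnected_closed_part_of_integral π f I
  · obtain ⟨z, hz, hzx⟩ := (Conn.isConnected_inter_closure I f x).nonempty
    exact ⟨z, hi ▸ hz, specializes_iff_mem_closure.mpr hzx⟩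

end Groth.Agent.EtPBC63.Gabber
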