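import Groth.Agent.EtPBC63.Gabber.Spread
import Groth.Agent.EtPBC63.Gen
import Groth.Agent.EtFound.GermSupp
import Groth.Agent.EtFound.AbRecollement
import Groth.Agent.EtFound.CoprodSections
import Groth.Agent.EtFound.Detect

/-!
# Gabber's criterion for abelian étale sheaves
-/

universe u

open CategoryTheory CategoryTheory.Limits AlgebraicGeometry Opposite

namespace Groth.Agent.EtPBC63.Gabber

open EtFound

set_option backward.isDefEq.respectTransparency.types false

variable {X : Scheme.{u}}

theorem eq_zero_of_germSupp {F : EtCoh.Ab X} {U : X.Etale} (s : F.obj.obj (op U)) (h : germSupp F U s = ∅) :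
    s = 0 := by
  refine (((isSheaf_iff_isSheaf_of_type _ _).1
    ((sheafCompose X.smallEtaleTopology (forget AddCommGrpCat.{u + 1})).obj F).property).isSeparated
    _ (equalizerSieve_mem_of_germs F.obj U s 0 fun Ω _ _ ξ u => ?_)).ext fun V g hg => hg
  by_contra hne
  rw [map_zero] at hne
  exact Set.eq_empty_iff_forall_notMem.mp h _ ((mem_germSupp_iff s u).mpr hne)

theorem germSupp_zero (F : EtCoh.Ab X) (U : X.Etale) (q : U.left) : q ∉ germSupp F U 0 := fun h => by
  obtain ⟨Ω, _, _, ξ, z, rfl⟩ := exists_algClosed_point U q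
  exact (mem_germSupp_iff _ z).mp h (map_zero _)

theorem germSupp_sub_subset {F : EtCoh.Ab X} {U : X.Etale} (s t r : F.obj.obj (op U)) :
    germSupp F U (s - r) ⊆ germSupp F U (s - t) ∪ germSupp F U (t - r) := by
  intro q hq
  obtain ⟨Ω, _, _, ξ, z, rfl⟩ := exists_algClosed_point U q
  by_contra hne
  have h1 := not_not.mp fun hh => hne (Or.inl ((mem_germSupp_iff (s - t) z).mpr hh))
  have h2 := not_not.mp fun hh => hne (Or.inr ((mem_germSupp_iff (t - r) z).mpr hh))
  refine (mem_germSupp_iff _ z).mp hq ?_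
  rw [← sub_add_sub_cancel s t r, map_add, h1, h2, add_zero]

theorem germSupp_map {F : EtCoh.Ab X} {U V : X.Etale} (g : V ⟶ U) (s : F.obj.obj (op U)) (q : V.left) :
    q ∈ germSupp F V (F.obj.map g.op s) ↔ g.left.base q ∈ germSupp F U s := by
  obtain ⟨Ω, _, _, ξ, z, rfl⟩ := exists_algClosed_point V q
  show ptOf z ∈ _ ↔ g.left.base (ptOf z) ∈ _
  rw [← ptOf_map g z, mem_germSupp_iff, mem_germSupp_iff]
  refine not_congr ?_
  rw [(Scheme.pointSmallEtale ξ).toPresheafFiber_w_apply g z F.obj s]

variable {Z : Scheme.{u}} (i : Z ⟶ X) [IsClosedImmersion i] [EtCoh.BCCont i] (F : EtCoh.Ab X)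

set_option quotPrecheck false in
local notation "G" => (EtCoh.push i).obj ((EtCoh.pull i).obj F)
set_option quotPrecheck false in
local notation "η" => (EtCoh.pullPushAdj i).unit.app F

theorem unit_map {U V : X.Etale} (g : V ⟶ U) (x : F.obj.obj (op U)) :
    (η).hom.app (op V) (F.obj.map g.op x) = (G).obj.map g.op ((η).hom.app (op U) x) :=
  NatTrans.naturality_apply (η).hom g.op x

theorem germSupp_unit {U : X.Etale} (s : F.obj.obj (op U)) (hs : (η).hom.app (op U) s = 0) :
    Disjoint (germSupp F U s) (U.hom.base ⁻¹' Set.range i.base) := by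
  refine Set.disjoint_left.mpr fun q hq hqZ => ?_
  obtain ⟨Ω, _, _, ξ, z, rfl⟩ := exists_algClosed_point U q
  have hiso := isIso_stalk_unit_closed i F ξ (by
    obtain ⟨a, ha⟩ := hqZ
    exact ⟨a, ha.trans (hom_ptOf z)⟩)
  refine (mem_germSupp_iff s z).mp hq
    (((ConcreteCategory.isIso_iff_bijective ((EtCoh.stalk ξ).map (η))).mp hiso).1 ?_)
  exact ((stalk_map_germ η U z s).trans ((congrArg _ hs).trans (map_zero _))).trans (map_zero _).symm

theorem germSupp_push {U : X.Etale} (t : (G).obj.obj (op U)) : germSupp G U t ⊆ U.hom.base ⁻¹' Set.range i.base := by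
  intro q hq
  obtain ⟨Ω, _, _, ξ, z, rfl⟩ := exists_algClosed_point U q
  by_contra h
  haveI := AddCommGrpCat.subsingleton_of_isZero (isZero_stalk_push_closed i ((EtCoh.pull i).obj F) ξ
    (fun hm => h (by rw [Set.mem_preimage]; exact (hom_ptOf z).symm ▸ hm)))
  exact (mem_germSupp_iff t z).mp hq (Subsingleton.elim (α := (EtCoh.stalk ξ).obj G) _ _)

/-- Gabber's criterion in the form using integral schemes integral over the base. -/
theorem bijective_unit [CompactSpace X] [QuasiSeparatedSpace X] (hV : ConnOverIntegral (Set.range i.base))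
    (hspec : ∀ x : X, ∃ z ∈ Set.range i.base, x ⤳ z) :
    Function.Bijective ((η).hom.app (op (EtCoh.top X))) := by
  classical
  have htop : ∀ {U : X.Etale} (a b : U ⟶ EtCoh.top X), a = b := fun a b =>
    (EtCore.topIsTerminal X).hom_ext a b
  refine ⟨fun s s' hss => ?_, fun t => ?_⟩
  · rw [← sub_eq_zero]
    refine eq_zero_of_germSupp _ (Set.eq_empty_of_forall_notMem fun q hq => ?_)
    obtain ⟨z, hz, hqz⟩ := hspec ((EtCoh.top X).hom.base q)
    refine Set.disjoint_left.mp (germSupp_unit i F (s - s') (by rw [map_sub, hss, sub_self]))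
      ((show q ⤳ z from hqz).mem_closed (isClosed_germSupp _ _ _) hq) ?_
    exact hz
  -- local lifts along the part over `Z`
  have hloc : ∀ z : Set.range i.base, ∃ (U : X.Etale) (_ : IsAffine U.left) (s : F.obj.obj (op U)) (a : U.left),
      U.hom.base a = z.1 ∧
      (η).hom.app (op U) s = (G).obj.map ((EtCore.topIsTerminal X).from U).op t := by
    intro z
    obtain ⟨Ω, _, _, ξ, z₀, hz₀⟩ := exists_algClosed_point (EtCoh.top X) z.1
    let Φ := Scheme.pointSmallEtale ξ
    have hξ : ξ.base (default : Spec (CommRingCat.of Ω)) = z.1 := (hom_ptOf z₀).symm.trans hz₀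
    have hiso := isIso_stalk_unit_closed i F ξ (hξ ▸ z.2)
    obtain ⟨c, hc⟩ := ((ConcreteCategory.isIso_iff_bijective ((EtCoh.stalk ξ).map (η))).mp hiso).2
      (Φ.toPresheafFiber _ z₀ (G).obj t)
    obtain ⟨U, u, s, rfl⟩ := Φ.toPresheafFiber_jointly_surjective c
    have hc' : Φ.toPresheafFiber U u (G).obj ((η).hom.app (op U) s) =
        Φ.toPresheafFiber U u (G).obj ((G).obj.map ((EtCore.topIsTerminal X).from U).op t) := by
      refine (stalk_map_germ η U u s).symm.trans (hc.trans ?_)
      rw [Φ.toPresheafFiber_w_apply]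
      congr 2
      exact congrArg (fun p => Φ.toPresheafFiber _ p (G).obj) (CategoryTheory.Over.OverMorphism.ext (by
        refine ((Category.comp_id _).symm.trans (CategoryTheory.Over.w z₀)).trans ?_
        exact ((Category.comp_id _).symm.trans (CategoryTheory.Over.w _)).symm))
    obtain ⟨W, f, w, hw, hf⟩ := (Φ.toPresheafFiber_eq_iff' U u _ _).1 hc'
    obtain ⟨V, hVaff, r, v, hv⟩ := exists_affine_nhd W w
    refine ⟨V, hVaff, F.obj.map (r ≫ f).op s, ptOf v, (hom_ptOf v).trans hξ, ?_⟩
    rw [unit_map i F (r ≫ f), op_comp, Functor.map_comp_apply, hf, ← Functor.map_comp_apply,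
      ← Functor.map_comp_apply, ← op_comp, ← op_comp]
    rw [htop ((r ≫ f) ≫ (EtCore.topIsTerminal X).from U) ((EtCore.topIsTerminal X).from V)]
  choose U₀ hU₀ s₀ a₀ ha₀ hs₀ using hloc
  have hUo : ∀ z, IsOpen (Set.range (U₀ z).hom.base) := fun z => by
    haveI := (U₀ z).prop
    exact (U₀ z).hom.isOpenMap.isOpen_range
  obtain ⟨T, hT⟩ := (i.isClosedEmbedding.isClosed_range.isCompact).elim_finite_subcover
    (fun z => Set.range (U₀ z).hom.base) hUo (fun z hz => Set.mem_iUnion.mpr ⟨⟨z, hz⟩, a₀ _, ha₀ _⟩)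
  let κ := {z // z ∈ T}
  haveI : ∀ k : κ, Etale (U₀ k.1).hom := fun k => (U₀ k.1).prop
  haveI : ∀ k : κ, IsAffine (U₀ k.1).left := fun k => hU₀ k.1
  haveI : Etale (Sigma.desc fun k : κ => (U₀ k.1).hom) := IsZariskiLocalAtSource.sigmaDesc fun k => inferInstance
  let U : X.Etale := Scheme.Etale.mk (Sigma.desc fun k : κ => (U₀ k.1).hom)
  let inj : ∀ k : κ, U₀ k.1 ⟶ U := fun k =>
    MorphismProperty.Over.homMk (Sigma.ι (fun k : κ => (U₀ k.1).left) k) (Sigma.ι_desc _ _) trivial
  obtain ⟨hcov, hdis, hmono, -⟩ := cover_disjoint_mono_of_isColimit _ inj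
    (coproductIsCoproduct fun k : κ => (U₀ k.1).left)
  obtain ⟨s, hs⟩ := (bijective_sections_of_disjoint F _ inj hcov hdis).2 fun k => s₀ k.1
  have hst : (η).hom.app (op U) s = (G).obj.map ((EtCore.topIsTerminal X).from U).op t := by
    refine (bijective_sections_of_disjoint G _ inj hcov hdis).1 (funext fun k => ?_)
    show (G).obj.map (inj k).op _ = (G).obj.map (inj k).op _
    rw [← unit_map i F (inj k), show F.obj.map (inj k).op s = s₀ k.1 from congrFun hs k, hs₀,
      ← Functor.map_comp_apply, ← op_comp, htop (inj k ≫ _) ((EtCore.topIsTerminal X).from _)]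
  -- the scheme theoretic data
  let h : U.left ⟶ X := U.hom
  haveI : Etale h := U.prop
  haveI : Finite κ := inferInstance
  haveI : IsAffine (∐ fun k : κ => (U₀ k.1).left) := inferInstance
  haveI : IsAffine U.left := inferInstanceAs (IsAffine (∐ fun k : κ => (U₀ k.1).left))
  haveI : IsSeparated h := by
    haveI : IsSeparated (h ≫ terminal.from X) := by
      rw [terminal.hom_ext (h ≫ terminal.from X) (terminal.from U.left)]; infer_instance
    exact IsSeparated.of_comp h (terminal.from X)
  haveI : Etale (pullback.fst h h ≫ h) := inferInstance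
  let R : X.Etale := Scheme.Etale.mk (pullback.fst h h ≫ h)
  let p₁ : R ⟶ U := MorphismProperty.Over.homMk (pullback.fst h h) rfl trivial
  let p₂ : R ⟶ U := MorphismProperty.Over.homMk (pullback.snd h h) pullback.condition.symm trivial
  let δ := F.obj.map p₁.op s - F.obj.map p₂.op s
  let D : Set ↥(pullback h h) := germSupp F R δ
  have hpull : ∀ {T : X.Etale} (a : T ⟶ R) (q : T.left),
      a.left.base q ∈ D ↔ q ∈ germSupp F T (F.obj.map (a ≫ p₁).op s - F.obj.map (a ≫ p₂).op s) := by
    intro T a q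
    refine (germSupp_map a δ q).symm.trans ?_
    rw [map_sub, op_comp, op_comp, Functor.map_comp_apply, Functor.map_comp_apply]
  have hD : IsDisagreement h D := by
    refine ⟨isClosed_germSupp _ _ _, fun a => ?_, fun w hw hw' => ?_, fun q h12 h23 h13 => ?_⟩
    · let d : U ⟶ R := MorphismProperty.Over.homMk (diag h)
        (by show diag h ≫ pullback.fst h h ≫ h = h; rw [pullback.lift_fst_assoc, Category.id_comp]) trivial
      intro ha
      have h' := (hpull d a).mp ha
      rw [show d ≫ p₁ = d ≫ p₂ from MorphismProperty.Over.Hom.ext (by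
          show diag h ≫ pullback.fst h h = diag h ≫ pullback.snd h h
          rw [pullback.lift_fst, pullback.lift_snd]), sub_self] at h'
      exact germSupp_zero _ _ _ h'
    · let d : R ⟶ R := MorphismProperty.Over.homMk (flip h)
        (by show flip h ≫ pullback.fst h h ≫ h = pullback.fst h h ≫ h
            rw [pullback.lift_fst_assoc, ← pullback.condition]) trivial
      have e1 : d ≫ p₁ = p₂ := MorphismProperty.Over.Hom.ext (pullback.lift_fst _ _ _)
      have e2 : d ≫ p₂ = p₁ := MorphismProperty.Over.Hom.ext (pullback.lift_snd _ _ _)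
      have h' := (hpull d w).mp hw'
      rw [e1, e2] at h'
      obtain ⟨Ω, _, _, ξ, z, rfl⟩ := exists_algClosed_point R w
      refine (mem_germSupp_iff _ z).mp h' ?_
      have h0 : (Scheme.pointSmallEtale ξ).toPresheafFiber R z F.obj δ = 0 :=
        not_not.mp fun hne => hw ((mem_germSupp_iff δ z).mpr hne)
      rw [← neg_sub, map_neg, h0, neg_zero]
    · let g₁₂ := pullback.fst (pullback.snd h h) (pullback.fst h h)
      let g₂₃ := pullback.snd (pullback.snd h h) (pullback.fst h h)
      haveI : Etale (g₁₂ ≫ R.hom) := inferInstanceAs (Etale (g₁₂ ≫ pullback.fst h h ≫ h))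
      let T₃ : X.Etale := Scheme.Etale.mk (g₁₂ ≫ R.hom)
      let d₁₂ : T₃ ⟶ R := MorphismProperty.Over.homMk g₁₂ rfl trivial
      let d₂₃ : T₃ ⟶ R := MorphismProperty.Over.homMk g₂₃ (by
        show g₂₃ ≫ pullback.fst h h ≫ h = g₁₂ ≫ pullback.fst h h ≫ h
        rw [pullback.condition (f := h) (g := h)]
        conv_rhs => rw [pullback.condition_assoc]
        rw [pullback.condition (f := h) (g := h)]) trivial
      let d₁₃ : T₃ ⟶ R := MorphismProperty.Over.homMk (outer h) (by
        show outer h ≫ pullback.fst h h ≫ h = g₁₂ ≫ pullback.fst h h ≫ h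
        rw [pullback.lift_fst_assoc, Category.assoc]) trivial
      have a1 : d₁₃ ≫ p₁ = d₁₂ ≫ p₁ := MorphismProperty.Over.Hom.ext (pullback.lift_fst _ _ _)
      have a2 : d₁₃ ≫ p₂ = d₂₃ ≫ p₂ := MorphismProperty.Over.Hom.ext (pullback.lift_snd _ _ _)
      have a3 : d₁₂ ≫ p₂ = d₂₃ ≫ p₁ := MorphismProperty.Over.Hom.ext pullback.condition
      have h' := (hpull d₁₃ q).mp h13
      rw [a1, a2] at h'
      rcases germSupp_sub_subset _ (F.obj.map (d₁₂ ≫ p₂).op s) _ h' with h1 | h1
      · exact h12 ((hpull d₁₂ q).mpr h1)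
      · rw [a3] at h1
        exact h23 ((hpull d₂₃ q).mpr h1)
  have hDZ : ∀ w, (pullback.fst h h ≫ h).base w ∈ Set.range i.base → w ∉ D := fun w hw hwD =>
    Set.disjoint_left.mp (germSupp_unit i F δ (by
      rw [map_sub, unit_map i F p₁, unit_map i F p₂, hst,
        ← Functor.map_comp_apply, ← Functor.map_comp_apply, ← op_comp, ← op_comp,
        htop (p₁ ≫ _) (p₂ ≫ (EtCore.topIsTerminal X).from U), sub_self])) hwD hw
  have hcovZ : Set.range i.base ⊆ Set.range h.base := fun z hz => by
    obtain ⟨k, hk, a, rfl⟩ := Set.mem_iUnion₂.mp (hT hz)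
    refine ⟨(inj ⟨k, hk⟩).left.base a, ?_⟩
    rw [← Scheme.Hom.comp_apply]
    exact congr($(MorphismProperty.Over.w (inj ⟨k, hk⟩)) a)
  haveI : CompactSpace U.left := inferInstance
  obtain ⟨O, hOZ, hOcov, hOagree⟩ := exists_agreeing_open i.isClosedEmbedding.isClosed_range hV hspec hD hDZ hcovZ
  -- descent along the agreeing open
  let W := restrictEtale U O
  let ι := restrictEtaleHom U O
  let c := (EtCore.topIsTerminal X).from W
  have hc : c.left = O.ι ≫ h := ((Category.comp_id _).symm.trans (MorphismProperty.Over.w c))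
  have hsheaf := isSheafFor_of_covers F (fun _ : PUnit.{1} => W) (fun _ => c) fun x => by
    obtain ⟨a, haO, hax⟩ := hOcov x
    exact ⟨⟨⟩, ⟨a, haO⟩, by rw [hc]; exact hax⟩
  obtain ⟨s', hs', -⟩ := (Presieve.isSheafFor_arrows_iff _ _).1 hsheaf (fun _ => F.obj.map ι.op s) (by
    intro _ _ V a b hab
    show F.obj.map a.op (F.obj.map ι.op s) = F.obj.map b.op (F.obj.map ι.op s)
    rw [← Functor.map_comp_apply, ← Functor.map_comp_apply, ← op_comp, ← op_comp, ← sub_eq_zero]
    let e : V ⟶ R := MorphismProperty.Over.homMk (pullback.lift ((a ≫ ι).left) ((b ≫ ι).left)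
      ((MorphismProperty.Over.w (a ≫ ι)).trans (MorphismProperty.Over.w (b ≫ ι)).symm))
      (by show _ ≫ pullback.fst h h ≫ h = V.hom
          rw [pullback.lift_fst_assoc]; exact MorphismProperty.Over.w (a ≫ ι)) trivial
    have e1 : e ≫ p₁ = a ≫ ι := MorphismProperty.Over.Hom.ext (pullback.lift_fst _ _ _)
    have e2 : e ≫ p₂ = b ≫ ι := MorphismProperty.Over.Hom.ext (pullback.lift_snd _ _ _)
    refine eq_zero_of_germSupp _ (Set.eq_empty_of_forall_notMem fun q hq => ?_)
    rw [← e1, ← e2, ← hpull e q] at hq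
    refine hOagree _ ?_ ?_ hq
    · have h' := (Scheme.Hom.comp_apply e.left (pullback.fst h h) q).symm.trans
        (congr($(show e.left ≫ pullback.fst h h = (a ≫ ι).left from pullback.lift_fst _ _ _) q))
      exact h'.symm ▸ (a.left.base q).2
    · have h' := (Scheme.Hom.comp_apply e.left (pullback.snd h h) q).symm.trans
        (congr($(show e.left ≫ pullback.snd h h = (b ≫ ι).left from pullback.lift_snd _ _ _) q))
      exact h'.symm ▸ (b.left.base q).2)
  refine ⟨s', ?_⟩
  rw [← sub_eq_zero]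
  refine eq_zero_of_germSupp _ (Set.eq_empty_of_forall_notMem fun x hx => ?_)
  have hxZ := germSupp_push i F _ hx
  obtain ⟨a, ha⟩ := hcovZ hxZ
  have haO : a ∈ O := hOZ (by rw [Set.mem_preimage, show h a = _ from ha]; exact hxZ)
  have hx' : c.left.base (⟨a, haO⟩ : O) = x := by rw [hc]; exact ha
  rw [← hx'] at hx
  have h2 := (germSupp_map c _ _).mpr hx
  have h3 : F.obj.map c.op s' = F.obj.map ι.op s := hs' ⟨⟩
  have h4 : (G).obj.map c.op ((η).hom.app (op (EtCoh.top X)) s') = (G).obj.map c.op t := by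
    rw [← unit_map i F c, h3, unit_map i F ι, hst, ← Functor.map_comp_apply, ← op_comp, htop (ι ≫ _) c]
  have h5 : (G).obj.map c.op ((η).hom.app (op (EtCoh.top X)) s' - t) = 0 :=
    (map_sub _ _ _).trans (sub_eq_zero.mpr h4)
  exact germSupp_zero _ _ _ (h5 ▸ h2)

end Groth.Agent.EtPBC63.Gabber
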