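import Groth.Agent.EtPBC63.Gabber.Descent
import Groth.Agent.EtFound.SpectralPiZero
import Mathlib.AlgebraicGeometry.Morphisms.UniversallyOpen

/-!
# Gabber's criterion: spreading out from the part over `Z`
-/

universe u

open CategoryTheory CategoryTheory.Limits AlgebraicGeometry Topology

namespace Groth.Agent.EtPBC63.Gabber

/-- The preimage of `Z` in every integral scheme integral over the base is connected. -/
def ConnOverIntegral {X : Scheme.{u}} (Z : Set X) : Prop :=
  ∀ (V : Scheme.{u}) [IsIntegral V] (π : V ⟶ X) [IsIntegralHom π], _root_.IsPreconnected (π ⁻¹' Z)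

variable {X U : Scheme.{u}} {h : U ⟶ X} [Etale h] [IsSeparated h] {Z : Set X} {D : Set ↥(pullback h h)}

theorem notMem_of_specializes [QuasiSeparatedSpace X] (hV : ConnOverIntegral Z) (hD : IsDisagreement h D)
    (hDZ : ∀ w, (pullback.fst h h ≫ h) w ∈ Z → w ∉ D) (hcovZ : Z ⊆ Set.range h)
    {w : ↥(pullback h h)} {z z' : U} (hz : h z ∈ Z) (hz' : h z' ∈ Z)
    (h₁ : pullback.fst h h w ⤳ z) (h₂ : pullback.snd h h w ⤳ z') : w ∉ D := by
  obtain ⟨T, j, _, _, -, hjx⟩ := ConsPropLib.exists_integral_closure ((pullback.fst h h ≫ h) w)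
  haveI : QuasiSeparatedSpace T := quasiSeparatedSpace_of_quasiSeparated j
  let K := AlgebraicClosure T.functionField
  let φ : T.functionField →+* K := algebraMap _ _
  haveI : QuasiCompact (NormFieldX.pnt T K φ) := quasiCompact_of_compactSpace _
  haveI : QuasiSeparated (NormFieldX.pnt T K φ) := inferInstance
  let V := NormFieldX.norm T K φ
  let π : V ⟶ X := NormFieldX.ν T K φ ≫ j
  have hN : ∀ v : V, IsIntegrallyClosed (V.presheaf.stalk v) := fun v => (NormFieldX.isNormalScheme_norm v).2
  haveI : IsSepClosed V.functionField := by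
    obtain ⟨hinj, hrange⟩ := NormFieldX.range_stalkClosedPointTo T K φ
    let ψ := (Scheme.stalkClosedPointTo (NormFieldX.pnt T K φ).toNormalization).hom
    have hsur : Function.Surjective ψ := fun y => by
      have hy : IsIntegral T.functionField y := (Algebra.IsAlgebraic.isAlgebraic y).isIntegral
      exact hrange.ge hy
    let e : V.presheaf.stalk (NormFieldX.η T K φ) ≅ V.functionField := V.presheaf.stalkCongr (.of_eq (NormFieldX.η_eq T K φ))
    haveI : IsAlgClosed V.functionField := IsAlgClosed.of_ringEquiv K V.functionField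
      (((RingEquiv.ofBijective ψ ⟨hinj, hsur⟩).symm.trans e.commRingCatIsoToRingEquiv))
    infer_instance
  have hπη : π (genericPoint V) = (pullback.fst h h ≫ h) w := by
    rw [← hjx, Scheme.Hom.comp_apply, ← NormFieldX.η_eq T K φ, NormFieldX.ν_η]
  obtain ⟨r, hr₁, hr₂⟩ := Scheme.Pullback.exists_preimage_pullback (f := pullback.fst h h ≫ h) (g := π) w
    (genericPoint V) hπη.symm
  let q := pullback.snd h π
  let P : pullback (pullback.fst h h ≫ h) π ⟶ pullback q q := pullback.lift
    (pullback.lift (pullback.fst _ _ ≫ pullback.fst h h) (pullback.snd _ _)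
      (by rw [Category.assoc]; exact pullback.condition))
    (pullback.lift (pullback.fst _ _ ≫ pullback.snd h h) (pullback.snd _ _)
      (by rw [Category.assoc, ← pullback.condition (f := h) (g := h)]; exact pullback.condition))
    (by simp only [q, pullback.lift_snd])
  have hP : P ≫ pullback.map q q h h (pullback.fst h π) (pullback.fst h π) π pullback.condition.symm
      pullback.condition.symm = pullback.fst (pullback.fst h h ≫ h) π := by
    apply pullback.hom_ext
    · simp only [Category.assoc, pullback.lift_fst, P, q, pullback.lift_fst_assoc]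
    · simp only [Category.assoc, pullback.lift_snd, P, q, pullback.lift_snd_assoc, pullback.lift_fst]
  have e₀ : P ≫ pullback.fst q q ≫ q = pullback.snd (pullback.fst h h ≫ h) π := by
    simp only [P, q, pullback.lift_fst_assoc, pullback.lift_snd]
  have e₁ : P ≫ pullback.fst q q ≫ pullback.fst h π =
      pullback.fst (pullback.fst h h ≫ h) π ≫ pullback.fst h h := by
    simp only [P, q, pullback.lift_fst_assoc, pullback.lift_fst]
  have e₂ : P ≫ pullback.snd q q ≫ pullback.fst h π =
      pullback.fst (pullback.fst h h ≫ h) π ≫ pullback.snd h h := by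
    simp only [P, q, pullback.lift_snd_assoc, pullback.lift_fst]
  have key := notMem_of_normal hD hDZ hcovZ hN π (hV V π) (P r)
    ((Scheme.Hom.comp_apply _ _ r).symm.trans ((congr($e₀ r)).trans hr₂)) hz hz'
    ((((Scheme.Hom.comp_apply _ _ r).symm.trans ((congr($e₁ r)).trans
      ((Scheme.Hom.comp_apply _ _ r).trans (congrArg _ hr₁))))) ▸ h₁)
    ((((Scheme.Hom.comp_apply _ _ r).symm.trans ((congr($e₂ r)).trans
      ((Scheme.Hom.comp_apply _ _ r).trans (congrArg _ hr₁))))) ▸ h₂)
  rwa [← Scheme.Hom.comp_apply, hP, hr₁] at key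

/-- An open subscheme of the cover containing the part over `Z`, still covering, with no disagreement. -/
theorem exists_agreeing_open [CompactSpace X] [QuasiSeparatedSpace X] [CompactSpace U] (hZ : IsClosed Z)
    (hV : ConnOverIntegral Z) (hspec : ∀ x : X, ∃ z ∈ Z, x ⤳ z) (hD : IsDisagreement h D)
    (hDZ : ∀ w, (pullback.fst h h ≫ h) w ∈ Z → w ∉ D) (hcovZ : Z ⊆ Set.range h) :
    ∃ O : U.Opens, h ⁻¹' Z ⊆ O ∧ (∀ x, ∃ u ∈ O, h u = x) ∧
      ∀ w, pullback.fst h h w ∈ O → pullback.snd h h w ∈ O → w ∉ D := by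
  haveI : QuasiSeparatedSpace U := quasiSeparatedSpace_of_quasiSeparated h
  haveI : QuasiCompact h := quasiCompact_of_compactSpace h
  haveI : CompactSpace ↥(pullback h h) := QuasiCompact.compactSpace_of_compactSpace (pullback.fst h h)
  haveI : QuasiSeparatedSpace ↥(pullback h h) := quasiSeparatedSpace_of_quasiSeparated (pullback.fst h h)
  haveI : SpectralSpace U := {}
  haveI : SpectralSpace ↥(pullback h h) := {}
  let G : Set U := {u | ∃ a ∈ h ⁻¹' Z, u ⤳ a}
  have hG : SpecLib.CC G := EtFound.SpectralPiZero.cc_generalizations (hZ.preimage h.continuous)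
  have hGgen : ∀ {u v : U}, u ⤳ v → v ∈ G → u ∈ G := fun huv ⟨a, ha, hva⟩ => ⟨a, ha, huv.trans hva⟩
  have hM : ∀ w, pullback.fst h h w ∈ G → pullback.snd h h w ∈ G → w ∉ D :=
    fun w ⟨a, ha, h₁⟩ ⟨b, hb, h₂⟩ => notMem_of_specializes hV hD hDZ hcovZ ha hb h₁ h₂
  have hGcov : ∀ x, ∃ u ∈ G, h u = x := fun x => by
    obtain ⟨z, hz, hxz⟩ := hspec x
    obtain ⟨a, rfl⟩ := hcovZ hz
    obtain ⟨u, hua, hu⟩ := (Flat.generalizingMap h) hxz
    exact ⟨u, ⟨a, hz, hua⟩, hu⟩
  let E : Set U := pullback.fst h h '' (D ∩ pullback.snd h h ⁻¹' G)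
  have hspecfst : IsSpectralMap (pullback.fst h h) := Scheme.Hom.isSpectralMap _
  have hspecsnd : IsSpectralMap (pullback.snd h h) := Scheme.Hom.isSpectralMap _
  have hEcc : SpecLib.CC E :=
    SpecLib.CC.image hspecfst ((SpecLib.cc_of_isClosed hD.isClosed).inter (hG.preimage hspecsnd))
  have hEspec : StableUnderSpecialization E := by
    rintro u₁ u₂ h12 ⟨w', ⟨hw'D, hw'G⟩, hw'⟩
    by_contra hu₂
    obtain ⟨u'', hu''G, hu''⟩ := hGcov (h u₂)
    obtain ⟨w₂, hw₂, hw₂'⟩ := Scheme.Pullback.exists_preimage_pullback (f := h) (g := h) u₂ u'' hu''.symm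
    have hw₂D : w₂ ∉ D := fun hd => hu₂ ⟨w₂, ⟨hd, by rw [Set.mem_preimage, hw₂']; exact hu''G⟩, hw₂⟩
    obtain ⟨w₁, hw₁₂, hw₁⟩ := (Flat.generalizingMap (pullback.fst h h)) (hw₂.symm ▸ h12)
    have hw₁D : w₁ ∉ D := fun hd => hw₂D (hw₁₂.mem_closed hD.isClosed hd)
    have hw₁G : pullback.snd h h w₁ ∈ G :=
      hGgen (hw₁₂.map (pullback.snd h h).continuous) (hw₂'.symm ▸ hu''G)
    -- `(u₁, u₁')` disagree while `(u₁, u₁'')` agree, and `u₁', u₁''` agree
    obtain ⟨t, ht₁, ht₂⟩ := Scheme.Pullback.exists_preimage_pullback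
      (f := pullback.snd h h) (g := pullback.fst h h) (flip h w₁) w'
      (by rw [← Scheme.Hom.comp_apply, pullback.lift_snd]; exact hw₁.trans hw'.symm)
    have ho : outer h t ∉ D := by
      refine hM _ ?_ ?_
      · rw [← Scheme.Hom.comp_apply, pullback.lift_fst, Scheme.Hom.comp_apply, ht₁, ← Scheme.Hom.comp_apply,
          pullback.lift_fst]
        exact hw₁G
      · rw [← Scheme.Hom.comp_apply, pullback.lift_snd, Scheme.Hom.comp_apply, ht₂]
        exact hw'G
    refine absurd hw'D ?_
    let swap : triple h ⟶ triple h := pullback.lift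
      (pullback.fst _ _ ≫ flip h) (outer h)
      (by simp only [Category.assoc, flip, outer, pullback.lift_fst, pullback.lift_snd])
    have hs1 : pullback.fst (pullback.snd h h) (pullback.fst h h) (swap t) ∉ D := by
      rw [← Scheme.Hom.comp_apply, pullback.lift_fst, Scheme.Hom.comp_apply, ht₁, ← Scheme.Hom.comp_apply,
        show flip h ≫ flip h = 𝟙 _ by apply pullback.hom_ext <;> simp only [Category.assoc, flip,
          pullback.lift_fst, pullback.lift_snd, Category.id_comp]]
      exact hw₁D
    have hs2 : pullback.snd (pullback.snd h h) (pullback.fst h h) (swap t) ∉ D := by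
      rw [← Scheme.Hom.comp_apply, pullback.lift_snd]
      exact ho
    have h3 := hD.trans _ hs1 hs2
    have he : swap ≫ outer h = pullback.snd (pullback.snd h h) (pullback.fst h h) := by
      apply pullback.hom_ext
      · simp only [swap, outer, flip, Category.assoc, pullback.lift_fst, pullback.lift_fst_assoc]
        exact pullback.condition
      · simp only [swap, outer, Category.assoc, pullback.lift_snd, pullback.lift_snd_assoc]
    rw [← Scheme.Hom.comp_apply, he, ht₂] at h3
    exact h3
  refine ⟨⟨Eᶜ, (hEcc.isClosed hEspec).isOpen_compl⟩, ?_, fun x => ?_, fun w h₁ h₂ hwD => ?_⟩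
  · rintro u hu ⟨w, ⟨hwD, hwG⟩, rfl⟩
    exact hM w ⟨_, hu, specializes_rfl⟩ hwG hwD
  · obtain ⟨u, hu, hux⟩ := hGcov x
    refine ⟨u, ?_, hux⟩
    rintro ⟨w, ⟨hwD, hwG⟩, rfl⟩
    exact hM w hu hwG hwD
  · obtain ⟨u'', hu'', hux⟩ := hGcov (h (pullback.fst h h w))
    obtain ⟨a, ha₁, ha₂⟩ := Scheme.Pullback.exists_preimage_pullback (f := h) (g := h) _ u'' hux.symm
    have haD : a ∉ D := fun hd => h₁ ⟨a, ⟨hd, by rw [Set.mem_preimage, ha₂]; exact hu''⟩, ha₁⟩
    obtain ⟨t, ht₁, ht₂⟩ := Scheme.Pullback.exists_preimage_pullback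
      (f := pullback.snd h h) (g := pullback.fst h h) (flip h w) a
      (by rw [← Scheme.Hom.comp_apply, pullback.lift_snd]; exact ha₁.symm)
    let b := outer h t
    have hbD : b ∉ D := fun hd => h₂ ⟨b, ⟨hd, by
        rw [Set.mem_preimage, ← Scheme.Hom.comp_apply, pullback.lift_snd, Scheme.Hom.comp_apply, ht₂, ha₂]
        exact hu''⟩, by
      rw [← Scheme.Hom.comp_apply, pullback.lift_fst, Scheme.Hom.comp_apply, ht₁, ← Scheme.Hom.comp_apply,
        pullback.lift_fst]⟩
    let swap : triple h ⟶ triple h := pullback.lift (pullback.snd _ _) (outer h ≫ flip h)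
      (by simp only [Category.assoc, flip, outer, pullback.lift_fst, pullback.lift_snd])
    have he : swap ≫ outer h = pullback.fst (pullback.snd h h) (pullback.fst h h) ≫ flip h := by
      apply pullback.hom_ext
      · simp only [swap, outer, flip, Category.assoc, pullback.lift_fst, pullback.lift_fst_assoc]
        exact pullback.condition.symm
      · simp only [swap, outer, flip, Category.assoc, pullback.lift_fst, pullback.lift_snd, pullback.lift_snd_assoc]
    have h3 := hD.trans (swap t)
      (by rw [← Scheme.Hom.comp_apply, pullback.lift_fst, ht₂]; exact haD)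
      (by rw [← Scheme.Hom.comp_apply, pullback.lift_snd, Scheme.Hom.comp_apply]; exact hD.symm b hbD)
    rw [← Scheme.Hom.comp_apply, he, Scheme.Hom.comp_apply, ht₁, ← Scheme.Hom.comp_apply,
      show flip h ≫ flip h = 𝟙 _ by apply pullback.hom_ext <;> simp only [Category.assoc, flip,
        pullback.lift_fst, pullback.lift_snd, Category.id_comp]] at h3
    exact h3 hwD

end Groth.Agent.EtPBC63.Gabber
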